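/-
Checks on the coded geometry of PSU₆(2) and on the coded vectors.
-/
import Cfsg.Agent.Lib.U62.Data
import Cfsg.Agent.Lib.G24.Field
import Cfsg.Agent.Lib.PermChain.Wide

set_option autoImplicit false

namespace CfsgU62

open CfsgLib.G24 CfsgLeech CfsgLeechOrb

/-- The element of a code. -/
def kOf (n : ℕ) : K :=
  bif Nat.beq n 0 then K.o else bif Nat.beq n 1 then K.i else bif Nat.beq n 2 then K.w else K.v

/-- The vector of a code. -/
def vecK (c : ℕ) (i : Fin 6) : K := kOf ((c >>> (2 * (i : ℕ))) % 4)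

/-- A generator. -/
def matK (k : ℕ) : Matrix (Fin 6) (Fin 6) K := fun i j => vecK ((matL.getD k []).getD (i : ℕ) 0) j

/-- The form. -/
def hK (u v : Fin 6 → K) : K := u 0 * (v 0 * v 0) + u 1 * (v 1 * v 1) + u 2 * (v 2 * v 2) + u 3 * (v 3 * v 3) +
  u 4 * (v 4 * v 4) + u 5 * (v 5 * v 5)

/-- A row times a vector. -/
def dotK (u v : Fin 6 → K) : K := u 0 * v 0 + u 1 * v 1 + u 2 * v 2 + u 3 * v 3 + u 4 * v 4 + u 5 * v 5

/-- The image of a vector. -/
def imgK (A : Matrix (Fin 6) (Fin 6) K) (v : Fin 6 → K) (i : Fin 6) : K := dotK (A i) v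

/-- Coincidence of vectors. -/
def veqB (f g : Fin 6 → K) : Bool := (List.finRange 6).all fun i => decide (f i = g i)

/-- The determinant in characteristic two, by the first row. -/
def detK : (n : ℕ) → Matrix (Fin n) (Fin n) K → K
  | 0, _ => 1
  | n + 1, A => ∑ j : Fin (n + 1), A 0 j * detK n (fun i k => A i.succ (j.succAbove k))

/-- A point. -/
def ptK (i : ℕ) : Fin 6 → K := vecK (get64 ptL i)

/-- A tree edge. -/
def treeOK (i : ℕ) : Bool :=
  let q := get64 parL i
  Nat.blt (q / 16) i && Nat.blt (q / 4 % 4) 2 && !(Nat.beq (q % 4) 0) &&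
    veqB (imgK (matK (q / 4 % 4)) (ptK (q / 16))) (fun a => kOf (q % 4) * ptK i a)

/-- An entry of the table of points. -/
def tabOK (c : ℕ) : Bool :=
  let v := vecK c
  Nat.beq c 0 || decide (hK v v ≠ 0) ||
    (Nat.blt (get64 tabL c / 4) 693 && veqB v fun a => kOf (get64 tabL c % 4) * ptK (get64 tabL c / 4) a)

/-- A basis vector of a plane. -/
def basK (j m : ℕ) : Fin 6 → K := vecK ((get64 planeL j) >>> (12 * m) % 4096)

/-- A pivot of a plane. -/
def pivK (j m : ℕ) : Fin 6 := ⟨((get64 planeL j) >>> (36 + 3 * m) % 8) % 6, Nat.mod_lt _ (by norm_num)⟩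

/-- A plane is in reduced form and its code says nothing more. -/
def planeOK (j : ℕ) : Bool :=
  Nat.blt (get64 planeL j) (2 ^ 45) &&
  ((List.range 3).all fun m => Nat.blt ((get64 planeL j) >>> (36 + 3 * m) % 8) 6) &&
  Nat.blt (pivK j 0).val (pivK j 1).val && Nat.blt (pivK j 1).val (pivK j 2).val &&
  ((List.range 3).all fun m => ((List.range 3).all fun l =>
      decide (basK j m (pivK j l) = if m = l then 1 else 0)) &&
    ((List.finRange 6).all fun i => !(Nat.blt i.val (pivK j m).val) || decide (basK j m i = 0)))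

/-- A generator moves a plane to the recorded plane. -/
def actOK (k j : ℕ) : Bool :=
  let j' := CfsgPCW.ap (permL.getD k (0, 0)).1 j
  (List.range 3).all fun m =>
    let w := imgK (matK k) (basK j m)
    veqB w fun a => w (pivK j' 0) * basK j' 0 a + w (pivK j' 1) * basK j' 1 a + w (pivK j' 2) * basK j' 2 a

/-- An ordering by strictly increasing entries. -/
def incOK (L S : List (List ℕ)) (n : ℕ) : Bool :=
  (List.range n).all fun k => Nat.blt (get64 S k) n &&
    (Nat.ble n (k + 1) || Nat.blt (get64 L (get64 S k)) (get64 L (get64 S (k + 1))))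

/-- A generator moves a vector to the recorded vector. -/
def moveOK (k i : ℕ) : Bool :=
  let w := wordL.getD k []
  let c := get64 vecsL i
  let l := runN w c
  pathOK w c l && Nat.beq (pathEnd c l) (get64 vecsL (CfsgPCW.ap (permL.getD k (0, 0)).1 i))

/-- A coded vector lies in the lattice. -/
def vecOK (i : ℕ) : Bool := Nat.blt (get64 vecsL i) (2 ^ 120) && inLatB (vecN (get64 vecsL i))

end CfsgU62
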