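/-
The checks of the coded geometry and vectors.
-/
import Cfsg.Agent.Lib.U62.Defs

set_option autoImplicit false
set_option maxRecDepth 30000

namespace CfsgU62

open CfsgLib.G24 CfsgLeech CfsgLeechOrb

/-- A range check. -/
def partOK (f : ℕ → Bool) (a b : ℕ) : Bool := (List.range (b - a)).all fun d => f (a + d)

theorem of_partOK {f : ℕ → Bool} {a b i : ℕ} (h : partOK f a b = true) (ha : a ≤ i) (hb : i < b) : f i = true := by
  have := List.all_eq_true.mp h (i - a) (List.mem_range.mpr (by omega))
  rwa [Nat.add_sub_cancel' ha] at this

theorem mat_unitary : ∀ k < 2, ((List.finRange 6).all fun i => (List.finRange 6).all fun j =>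
    decide (hK (fun a => matK k a i) (fun a => matK k a j) = if i = j then 1 else 0)) = true := by decide +kernel

theorem mat_det : ∀ k < 2, detK 6 (matK k) = 1 := by decide +kernel

theorem root_transv : hK (ptK 0) (ptK 0) = 0 ∧ ((List.finRange 6).any fun a => decide (ptK 0 a ≠ 0)) = true ∧
    ((List.finRange 6).all fun i => (List.finRange 6).all fun j =>
      decide (matK 0 i j = (if i = j then 1 else 0) + ptK 0 i * (ptK 0 j * ptK 0 j))) = true := by decide +kernel

theorem tree_ok : partOK treeOK 1 693 = true := by decide +kernel

theorem tab_ok0 : partOK tabOK 0 1024 = true := by decide +kernel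

theorem tab_ok1 : partOK tabOK 1024 2048 = true := by decide +kernel

theorem tab_ok2 : partOK tabOK 2048 3072 = true := by decide +kernel

theorem tab_ok3 : partOK tabOK 3072 4096 = true := by decide +kernel

theorem plane_ok : partOK planeOK 0 891 = true := by decide +kernel

theorem plane_inc : incOK planeL planeSrt 891 = true := by decide +kernel

theorem vecs_inc : incOK vecsL vecsSrt 891 = true := by decide +kernel

theorem act_ok0 : partOK (actOK 0) 0 891 = true := by decide +kernel

theorem act_ok1 : partOK (actOK 1) 0 891 = true := by decide +kernel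

theorem perm_ok : ∀ k < 2, CfsgPCW.isPerm 891 (permL.getD k (0, 0)).1 (permL.getD k (0, 0)).2 = true := by decide +kernel

theorem move_ok0 : partOK (moveOK 0) 0 891 = true := by decide +kernel

theorem move_ok1 : partOK (moveOK 1) 0 891 = true := by decide +kernel

theorem words_ok : ∀ k < 2, keepsOK (wordL.getD k []) fixL = true := by decide +kernel

theorem vec_ok : partOK vecOK 0 891 = true := by decide +kernel

theorem act_moves : ∃ j, j < 891 ∧ CfsgPCW.ap (permL.getD 0 (0, 0)).1 j ≠ j := by decide +kernel

theorem fix_len : fixL.length = 2 ∧ wordL.length = 2 ∧ permL.length = 2 := by decide +kernel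

end CfsgU62
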