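/-
The stabiliser of two minimal vectors with dot product −16 is PSU₆(2).
-/
import Cfsg.Agent.Lib.U62.Checks
import Cfsg.Agent.Lib.ReflClass.Unitary
import Cfsg.Agent.Lib.Leech.Triangle
import Cfsg.Agent.Lib.Leech.StabSimple
import Cfsg.Agent.S0280
import Cfsg.Agent.S0283

set_option autoImplicit false
set_option maxRecDepth 30000

namespace CfsgU62

open CfsgLib.G24 CfsgLeech CfsgLeechOrb Matrix
open scoped Pointwise

attribute [local irreducible] CfsgGolay.codeL ptL parL tabL planeL planeSrt vecsL vecsSrt matL wordL permL fixL runN vecN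

/-- The permutations. -/
noncomputable def perms : Set (Equiv.Perm (Fin 891)) :=
  {p | ∃ k < 2, p = CfsgPCW.decP 891 (permL.getD k (0, 0)).1}

/-- The group of the permutations. -/
noncomputable def permGrp : Subgroup (Equiv.Perm (Fin 891)) := Subgroup.closure perms

theorem perm_rep {k : ℕ} (hk : k < 2) (j : Fin 891) :
    (CfsgPCW.decP 891 (permL.getD k (0, 0)).1 j : ℕ) = CfsgPCW.ap (permL.getD k (0, 0)).1 j :=
  (CfsgPCW.decP_rep (perm_ok k hk) j).symm

/-- The part of a group acting on labelled objects through a group of permutations. -/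
theorem exists_sub {G : Type*} [Group G] {X : Type*} [MulAction G X] {n : ℕ} {f : Fin n → X}
    (hf : Function.Injective f) (P : Subgroup (Equiv.Perm (Fin n))) :
    ∃ (S : Subgroup G) (φ : S →* P), (∀ g : G, (∃ p ∈ P, ∀ i, g • f i = f (p i)) → g ∈ S) ∧
      ∀ (g : S) (i : Fin n), (g : G) • f i = f ((φ g : Equiv.Perm (Fin n)) i) := by
  let S : Subgroup G :=
    { carrier := {g | ∃ p ∈ P, ∀ i, g • f i = f (p i)}
      one_mem' := ⟨1, one_mem _, fun i => by rw [one_smul]; rfl⟩
      mul_mem' := by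
        rintro g h ⟨p, hp, hpg⟩ ⟨q, hq, hqh⟩
        exact ⟨p * q, mul_mem hp hq, fun i => by rw [mul_smul, hqh, hpg]; rfl⟩
      inv_mem' := by
        rintro g ⟨p, hp, hpg⟩
        exact ⟨p⁻¹, inv_mem hp, fun i => by
          rw [inv_smul_eq_iff, hpg]
          exact congrArg f (p.apply_symm_apply i).symm⟩ }
  choose Q hQ hQs using fun g : S => g.2
  refine ⟨S, MonoidHom.mk' (fun g => ⟨Q g, hQ g⟩) (fun a b => Subtype.ext (Equiv.ext fun i => hf ?_)),
    fun g h => h, fun g i => hQs g i⟩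
  refine ((hQs (a * b) i).symm.trans ?_)
  rw [Subgroup.coe_mul, mul_smul, hQs b, hQs a]; rfl

theorem get_inc {L S : List (List ℕ)} {n : ℕ} (h : incOK L S n = true) :
    ∀ a < n, ∀ b < n, get64 L a = get64 L b → a = b := by
  simp only [incOK, List.all_eq_true, List.mem_range, Bool.and_eq_true, Bool.or_eq_true, Nat.blt_eq,
    Nat.ble_eq] at h
  have hmono : ∀ b < n, ∀ a < b, get64 L (get64 S a) < get64 L (get64 S b) := by
    intro b
    induction b with
    | zero => intro _ a ha; omega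
    | succ b ih =>
      intro hb a ha
      have h1 : get64 L (get64 S b) < get64 L (get64 S (b + 1)) :=
        (h b (by omega)).2.resolve_left (by omega)
      rcases Nat.lt_or_eq_of_le (Nat.lt_succ_iff.mp ha) with h' | rfl
      · exact (ih (by omega) a h').trans h1
      · exact h1
  let F : Fin n → Fin n := fun k => ⟨get64 S k, (h k k.2).1⟩
  have hF : Function.Injective fun k => get64 L (F k : ℕ) := fun a b e => by
    rcases lt_trichotomy (a : ℕ) b with hlt | heq | hlt
    · exact absurd e (hmono b b.2 a hlt).ne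
    · exact Fin.ext heq
    · exact absurd e (hmono a a.2 b hlt).ne'
  have hs : Function.Surjective F := Finite.injective_iff_surjective.mp fun a b e => hF (by simp only [e])
  intro a ha b hb e
  obtain ⟨i, hi⟩ := hs ⟨a, ha⟩
  obtain ⟨j, hj⟩ := hs ⟨b, hb⟩
  have hij : i = j := hF (by simp only [hi, hj]; exact e)
  exact congrArg Fin.val (hi.symm.trans ((congrArg F hij).trans hj))

theorem kOf_inj : ∀ a b : Fin 4, kOf a = kOf b → a = b := by decide

theorem vecK_inj {c d : ℕ} (hc : c < 4096) (hd : d < 4096) (h : ∀ i, vecK c i = vecK d i) : c = d := by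
  have e : ∀ i : Fin 6, (c >>> (2 * (i : ℕ))) % 4 = (d >>> (2 * (i : ℕ))) % 4 := fun i =>
    congrArg Fin.val (kOf_inj ⟨_, Nat.mod_lt _ (by norm_num)⟩ ⟨_, Nat.mod_lt _ (by norm_num)⟩ (h i))
  have e0 := e 0; have e1 := e 1; have e2 := e 2; have e3 := e 3; have e4 := e 4; have e5 := e 5
  simp only [Nat.shiftRight_eq_div_pow, Fin.val_zero, Fin.val_one, Fin.val_two] at e0 e1 e2 e3 e4 e5
  rw [show ((3 : Fin 6) : ℕ) = 3 from rfl] at e3
  rw [show ((4 : Fin 6) : ℕ) = 4 from rfl] at e4
  rw [show ((5 : Fin 6) : ℕ) = 5 from rfl] at e5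
  norm_num at e0 e1 e2 e3 e4 e5
  omega

theorem plane_facts {j : ℕ} (hj : j < 891) : get64 planeL j < 2 ^ 45 ∧
    (∀ m < 3, (get64 planeL j) >>> (36 + 3 * m) % 8 < 6) ∧
    (pivK j 0).val < (pivK j 1).val ∧ (pivK j 1).val < (pivK j 2).val ∧
    (∀ m < 3, (∀ l < 3, basK j m (pivK j l) = if m = l then 1 else 0) ∧
      ∀ i : Fin 6, i.val < (pivK j m).val → basK j m i = 0) := by
  have h := of_partOK plane_ok (Nat.zero_le j) hj
  simp only [planeOK, Bool.and_eq_true, List.all_eq_true, List.mem_range, Nat.blt_eq, decide_eq_true_eq,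
    Bool.or_eq_true, Bool.not_eq_true'] at h
  obtain ⟨⟨⟨⟨h1, h2⟩, h3⟩, h4⟩, h5⟩ := h
  refine ⟨h1, h2, h3, h4, fun m hm => ⟨(h5 m hm).1, fun i hi => ?_⟩⟩
  rcases (h5 m hm).2 i (List.mem_finRange i) with e | e
  · rw [← Bool.not_eq_true, Nat.blt_eq] at e; exact absurd hi e
  · exact e

theorem plane_code {a b : ℕ} (ha : a < 891) (hb : b < 891) (hp : ∀ m < 3, pivK a m = pivK b m)
    (hv : ∀ m < 3, ∀ i, basK a m i = basK b m i) : a = b := by
  refine get_inc plane_inc a ha b hb ?_
  obtain ⟨a1, a2, -⟩ := plane_facts ha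
  obtain ⟨b1, b2, -⟩ := plane_facts hb
  have ep : ∀ m < 3, (get64 planeL a) >>> (36 + 3 * m) % 8 = (get64 planeL b) >>> (36 + 3 * m) % 8 := fun m hm => by
    have := congrArg Fin.val (hp m hm)
    simp only [pivK] at this
    rwa [Nat.mod_eq_of_lt (a2 m hm), Nat.mod_eq_of_lt (b2 m hm)] at this
  have ev : ∀ m < 3, (get64 planeL a) >>> (12 * m) % 4096 = (get64 planeL b) >>> (12 * m) % 4096 := fun m hm =>
    vecK_inj (Nat.mod_lt _ (by norm_num)) (Nat.mod_lt _ (by norm_num)) (hv m hm)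
  have p0 := ep 0 (by norm_num); have p1 := ep 1 (by norm_num); have p2 := ep 2 (by norm_num)
  have v0 := ev 0 (by norm_num); have v1 := ev 1 (by norm_num); have v2 := ev 2 (by norm_num)
  simp only [Nat.shiftRight_eq_div_pow] at p0 p1 p2 v0 v1 v2
  norm_num at p0 p1 p2 v0 v1 v2 a1 b1
  omega

theorem detK_eq : ∀ (n : ℕ) (A : Matrix (Fin n) (Fin n) K), detK n A = A.det := by
  intro n
  induction n with
  | zero => intro A; rw [Matrix.det_fin_zero]; rfl
  | succ n ih =>
    intro A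
    have h1 : (-1 : K) = 1 := by decide
    rw [Matrix.det_succ_row_zero]
    show ∑ j : Fin (n + 1), A 0 j * detK n _ = _
    refine Finset.sum_congr rfl fun j _ => ?_
    rw [h1, one_pow, one_mul]
    exact congrArg (A 0 j * ·) (ih _)

section PSU

variable {F : Type} [Field F] [Fintype F]

/-- A coded vector in the field. -/
def vecF (θ : K →+* F) (v : Fin 6 → K) : Fin 6 → F := fun i => θ (v i)

theorem hK_F (θ : K →+* F) (u v : Fin 6 → K) :
    θ (hK u v) = Cfsg.hermForm 6 F 2 (vecF θ u) (vecF θ v) := by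
  simp [hK, Cfsg.hermForm, vecF, Fin.sum_univ_six, sq]

theorem imgK_F (θ : K →+* F) (A : Matrix (Fin 6) (Fin 6) K) (v : Fin 6 → K) :
    A.map θ *ᵥ vecF θ v = vecF θ (imgK A v) := by
  funext i
  simp [vecF, imgK, dotK, Matrix.mulVec, dotProduct, Fin.sum_univ_six]

/-- The plane spanned by three coded vectors. -/
def planeF (θ : K →+* F) (j : ℕ) : Set (Fin 6 → F) :=
  Set.range fun c : Fin 3 → F => c 0 • vecF θ (basK j 0) + c 1 • vecF θ (basK j 1) + c 2 • vecF θ (basK j 2)

theorem plane_coef (θ : K →+* F) {j : ℕ} (hj : j < 891) (c : Fin 3 → F) (l : Fin 3) :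
    (c 0 • vecF θ (basK j 0) + c 1 • vecF θ (basK j 1) + c 2 • vecF θ (basK j 2)) (pivK j l) = c l := by
  obtain ⟨-, -, -, -, h⟩ := plane_facts hj
  simp only [Pi.add_apply, Pi.smul_apply, vecF, smul_eq_mul, (h 0 (by norm_num)).1 l l.2,
    (h 1 (by norm_num)).1 l l.2, (h 2 (by norm_num)).1 l l.2]
  fin_cases l <;> simp

theorem plane_param_inj (θ : K →+* F) {j : ℕ} (hj : j < 891) :
    Function.Injective fun c : Fin 3 → F =>
      c 0 • vecF θ (basK j 0) + c 1 • vecF θ (basK j 1) + c 2 • vecF θ (basK j 2) := fun c d e => funext fun l => by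
  have h := congrFun e (pivK j l)
  simp only [plane_coef θ hj c l, plane_coef θ hj d l] at h
  exact h

theorem planeF_inj (θ : K →+* F) {a b : ℕ} (ha : a < 891) (hb : b < 891) (h : planeF θ a = planeF θ b) : a = b := by
  have sub : ∀ {a b : ℕ}, a < 891 → b < 891 → planeF θ a = planeF θ b → ∀ m : Fin 3,
      ∃ c : Fin 3 → F, vecF θ (basK a m) =
        c 0 • vecF θ (basK b 0) + c 1 • vecF θ (basK b 1) + c 2 • vecF θ (basK b 2) := by
    intro a b ha hb h m
    have hm : vecF θ (basK a m) ∈ planeF θ a := ⟨fun l => if l = m then 1 else 0, by fin_cases m <;> simp⟩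
    rw [h] at hm
    obtain ⟨c, hc⟩ := hm
    exact ⟨c, hc.symm⟩
  have piv : ∀ {a b : ℕ}, a < 891 → b < 891 → planeF θ a = planeF θ b → ∀ m : Fin 3, ∃ l : Fin 3,
      (pivK a m).val = (pivK b l).val := by
    intro a b ha hb h m
    obtain ⟨c, hc⟩ := sub ha hb h m
    obtain ⟨-, -, -, -, hfa⟩ := plane_facts ha
    obtain ⟨-, -, b01, b12, hfb⟩ := plane_facts hb
    have hone : vecF θ (basK a m) (pivK a m) = 1 := by
      simp [vecF, (hfa m m.2).1 m m.2]
    have hbelow : ∀ l : Fin 3, c l ≠ 0 → (pivK a m).val ≤ (pivK b l).val := fun l hl => by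
      by_contra hlt
      refine hl ?_
      rw [← plane_coef θ hb c l, ← hc]
      simp [vecF, (hfa m m.2).2 _ (Nat.lt_of_not_le hlt)]
    have hvan : ∀ l : Fin 3, (pivK a m).val < (pivK b l).val → vecF θ (basK b l) (pivK a m) = 0 := fun l hl => by
      simp [vecF, (hfb l l.2).2 _ hl]
    by_contra hne
    push Not at hne
    have hterm : ∀ l : Fin 3, c l * vecF θ (basK b l) (pivK a m) = 0 := fun l => by
      by_cases hl : c l = 0
      · rw [hl, zero_mul]
      · rw [hvan l (lt_of_le_of_ne (hbelow l hl) (hne l)), mul_zero]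
    have h0 := hterm 0; have h1 := hterm 1; have h2 := hterm 2
    simp only [Fin.val_zero, Fin.val_one, Fin.val_two] at h0 h1 h2
    have e := congrFun hc (pivK a m)
    simp only [Pi.add_apply, Pi.smul_apply, smul_eq_mul, h0, h1, h2, add_zero] at e
    exact one_ne_zero (hone.symm.trans e)
  obtain ⟨-, -, a01, a12, -⟩ := plane_facts ha
  obtain ⟨-, -, b01, b12, hfb⟩ := plane_facts hb
  obtain ⟨l0, e0⟩ := piv ha hb h 0
  obtain ⟨l1, e1⟩ := piv ha hb h 1
  obtain ⟨l2, e2⟩ := piv ha hb h 2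
  have hp : ∀ m < 3, pivK a m = pivK b m := by
    intro m hm
    refine Fin.ext ?_
    fin_cases l0 <;> fin_cases l1 <;> fin_cases l2 <;> simp at e0 e1 e2 <;> interval_cases m <;> omega
  obtain ⟨-, -, -, -, hfa⟩ := plane_facts ha
  refine plane_code ha hb hp fun m hm i => θ.injective ?_
  obtain ⟨c, hc⟩ := sub ha hb h ⟨m, hm⟩
  have hcl : ∀ l : Fin 3, c l = if m = (l : ℕ) then 1 else 0 := fun l => by
    rw [← plane_coef θ hb c l, ← hc, ← hp l l.2]
    simp only [vecF, (hfa m hm).1 l l.2]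
    split_ifs <;> simp
  have e := congrFun hc i
  rw [hcl 0, hcl 1, hcl 2] at e
  interval_cases m <;> simpa [vecF] using e

theorem sum_sq {ι : Type} [Fintype ι] [CharP F 2] (f : ι → F) : (∑ i, f i) ^ 2 = ∑ i, (f i) ^ 2 := by
  haveI : Fact (Nat.Prime 2) := ⟨Nat.prime_two⟩
  exact sum_pow_char 2 _ _

theorem exists_su (θ : K →+* F) [CharP F 2] {k : ℕ} (hk : k < 2) :
    ∃ g : Cfsg.SU 6 F 2, CfsgLib.UnitarySimple.mat g = (matK k).map θ := by
  have hd : ((matK k).map θ).det = 1 := by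
    rw [← RingHom.mapMatrix_apply, ← RingHom.map_det, ← detK_eq, mat_det k hk, map_one]
  refine ⟨⟨⟨(matK k).map θ, hd⟩, fun u v => ?_⟩, rfl⟩
  have hu := mat_unitary k hk
  simp only [List.all_eq_true, decide_eq_true_eq] at hu
  have hcol : ∀ i j, ∑ a, θ (matK k a i) * θ (matK k a j) ^ 2 = if i = j then (1 : F) else 0 := fun i j => by
    have e := congrArg θ (hu i (List.mem_finRange i) j (List.mem_finRange j))
    rw [hK_F] at e
    simp only [Cfsg.hermForm, vecF] at e
    rw [e]
    split_ifs <;> simp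
  show Cfsg.hermForm 6 F 2 ((matK k).map θ *ᵥ u) ((matK k).map θ *ᵥ v) = _
  simp only [Cfsg.hermForm, Matrix.mulVec, dotProduct, Matrix.map_apply, sum_sq, mul_pow, Finset.sum_mul_sum]
  rw [Finset.sum_comm]
  refine Finset.sum_congr rfl fun i _ => ?_
  rw [Finset.sum_comm]
  calc ∑ j, ∑ a, θ (matK k a i) * u i * (θ (matK k a j) ^ 2 * v j ^ 2)
      = ∑ j, (∑ a, θ (matK k a i) * θ (matK k a j) ^ 2) * (u i * v j ^ 2) :=
        Finset.sum_congr rfl fun j _ => by rw [Finset.sum_mul]; exact Finset.sum_congr rfl fun a _ => by ring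
    _ = u i * v i ^ 2 := by simp [hcol]

open CfsgLib.UnitaryTransvection CfsgLib.UnitarySimple CfsgReflClass in
theorem psu_model (hF : Fintype.card F = 4) :
    Nat.card (Cfsg.PSU 6 F 2) = 9196830720 ∧ Nonempty (Cfsg.PSU 6 F 2 ≃* permGrp) := by
  classical
  obtain ⟨e⟩ := exists_ringEquiv F hF
  let θ : K →+* F := e.symm.toRingHom
  have hθs : Function.Surjective θ := e.symm.surjective
  haveI : Fact (Nat.Prime 2) := ⟨Nat.prime_two⟩
  haveI : CharP F 2 := charP_of_card_eq_prime_pow (f := 2) (by rw [hF]; norm_num)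
  have hF2 : Fintype.card F = 2 ^ 2 := by rw [hF]; norm_num
  have hG : Nat.card (Cfsg.PSU 6 F 2) = 9196830720 := by
    have h := Cfsg.Agent.S0280.result hF2 6 (by norm_num)
    simp only [Finset.prod_range_succ, Finset.prod_range_zero] at h
    norm_num [Nat.even_iff] at h ⊢
    first | omega | (rw [Nat.card_eq_fintype_card]; omega)
  refine ⟨hG, ?_⟩
  haveI : IsSimpleGroup (Cfsg.PSU 6 F 2) := Cfsg.Agent.S0283.result hF2 6 (by norm_num) (by norm_num)
  let toPerm : Cfsg.SU 6 F 2 →* Equiv.Perm (Fin 6 → F) :=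
    { toFun := fun g =>
        { toFun := fun v => mat g *ᵥ v
          invFun := fun v => mat g⁻¹ *ᵥ v
          left_inv := fun v => by simp only [Matrix.mulVec_mulVec, ← mat_mul, inv_mul_cancel, mat_one, Matrix.one_mulVec]
          right_inv := fun v => by simp only [Matrix.mulVec_mulVec, ← mat_mul, mul_inv_cancel, mat_one, Matrix.one_mulVec] }
      map_one' := Equiv.ext fun v => by show mat 1 *ᵥ v = v; rw [mat_one, Matrix.one_mulVec]
      map_mul' := fun g h => Equiv.ext fun v => by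
        show mat (g * h) *ᵥ v = mat g *ᵥ (mat h *ᵥ v); rw [mat_mul, Matrix.mulVec_mulVec] }
  letI : MulAction (Cfsg.SU 6 F 2) (Set (Fin 6 → F)) :=
    @MulAction.compHom (Equiv.Perm (Fin 6 → F)) (Cfsg.SU 6 F 2) (Set (Fin 6 → F)) _ Set.mulActionSet _ toPerm
  have hsmul : ∀ (g : Cfsg.SU 6 F 2) (T : Set (Fin 6 → F)), g • T = (fun v => mat g *ᵥ v) '' T := fun g T => rfl
  let S : Fin 891 → Set (Fin 6 → F) := fun j => planeF θ j
  have hSinj : Function.Injective S := fun a b h => Fin.ext (planeF_inj θ a.2 b.2 h)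
  obtain ⟨L, φ, hmem, hφ⟩ := exists_sub (G := Cfsg.SU 6 F 2) hSinj permGrp
  choose gk hgk using fun k : Fin 2 => exists_su θ k.2
  have hgS : ∀ (k : Fin 2) (j : Fin 891), gk k • S j = S (CfsgPCW.decP 891 (permL.getD k (0, 0)).1 j) := by
    intro k j
    rw [hsmul]
    have hj' := perm_rep k.2 j
    set j' := CfsgPCW.decP 891 (permL.getD k (0, 0)).1 j with hj'def
    refine Set.eq_of_subset_of_ncard_le ?_ ?_ (Set.toFinite _)
    · rintro _ ⟨_, ⟨c, rfl⟩, rfl⟩
      have ha : ∀ m < 3, mat (gk k) *ᵥ vecF θ (basK j m) =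
          θ (imgK (matK k) (basK j m) (pivK j' 0)) • vecF θ (basK j' 0) +
          θ (imgK (matK k) (basK j m) (pivK j' 1)) • vecF θ (basK j' 1) +
          θ (imgK (matK k) (basK j m) (pivK j' 2)) • vecF θ (basK j' 2) := fun m hm => by
        rw [hgk, imgK_F]
        have h : actOK k j = true := by
          rcases Nat.lt_succ_iff_lt_or_eq.mp k.2 with h | h
          · rw [Nat.lt_one_iff.mp h]; exact of_partOK act_ok0 (Nat.zero_le _) j.2
          · rw [h]; exact of_partOK act_ok1 (Nat.zero_le _) j.2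
        simp only [actOK, List.all_eq_true, List.mem_range, veqB, decide_eq_true_eq] at h
        funext i
        have := congrArg θ (h m hm i (List.mem_finRange i))
        rw [← hj'] at this
        simpa [vecF, map_add, map_mul] using this
      refine ⟨fun l => c 0 * θ (imgK (matK k) (basK j 0) (pivK j' l)) + c 1 * θ (imgK (matK k) (basK j 1) (pivK j' l)) +
        c 2 * θ (imgK (matK k) (basK j 2) (pivK j' l)), ?_⟩
      simp only [Matrix.mulVec_add, Matrix.mulVec_smul, ha 0 (by norm_num), ha 1 (by norm_num), ha 2 (by norm_num),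
        Fin.val_zero, Fin.val_one, Fin.val_two]
      module
    · rw [Set.ncard_image_of_injective _ fun u v huv => by
        have := congrArg (fun x => mat (gk k)⁻¹ *ᵥ x) huv
        simpa only [Matrix.mulVec_mulVec, ← mat_mul, inv_mul_cancel, mat_one, Matrix.one_mulVec] using this]
      show (planeF θ (j' : ℕ)).ncard ≤ (planeF θ (j : ℕ)).ncard
      rw [planeF, planeF, Set.ncard_range_of_injective (plane_param_inj θ j'.2),
        Set.ncard_range_of_injective (plane_param_inj θ j.2)]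
  have hgkL : ∀ k, gk k ∈ L := fun k =>
    hmem _ ⟨_, Subgroup.subset_closure ⟨k, k.2, rfl⟩, hgS k⟩
  -- the transvections
  obtain ⟨r0, r1, r2⟩ := root_transv
  simp only [List.all_eq_true, List.any_eq_true, decide_eq_true_eq] at r1 r2
  have ht : IsUTv (gk 0) (vecF θ (ptK 0)) := by
    refine ⟨fun h0 => ?_, by rw [← hK_F, r0, map_zero], fun x => ?_⟩
    · obtain ⟨a, -, ha⟩ := r1
      exact ha (θ.injective (by rw [map_zero]; exact congrFun h0 a))
    · rw [hgk]
      funext i
      simp only [Matrix.mulVec, dotProduct, Matrix.map_apply, Fin.val_zero, Pi.add_apply, Pi.smul_apply, smul_eq_mul]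
      have he : ∀ j, θ (matK 0 i j) * x j = (if i = j then x j else 0) + vecF θ (ptK 0) i * (x j * vecF θ (ptK 0) j ^ 2) := by
        intro j
        rw [r2 i (List.mem_finRange i) j (List.mem_finRange j)]
        split_ifs <;> simp [vecF] <;> ring
      simp only [he, Finset.sum_add_distrib, Finset.sum_ite_eq, Finset.mem_univ, if_true, ← Finset.mul_sum]
      rw [Cfsg.hermForm, mul_comm]
  have hθ0 : ∀ a : ℕ, 0 < a → a < 4 → θ (kOf a) ≠ 0 := fun a h0 h4 e => by
    have : kOf a = 0 := θ.injective (by rw [map_zero]; exact e)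
    interval_cases a <;> revert this <;> decide
  have htree : ∀ q < 693, ∃ g ∈ L, ∃ μ : F, μ ≠ 0 ∧ mat g *ᵥ vecF θ (ptK 0) = μ • vecF θ (ptK q) := by
    intro q
    induction q using Nat.strong_induction_on with
    | _ q ih =>
      intro hq
      rcases Nat.eq_zero_or_pos q with rfl | hpos
      · exact ⟨1, one_mem _, 1, one_ne_zero, by rw [mat_one, Matrix.one_mulVec, one_smul]⟩
      have h := of_partOK tree_ok hpos hq
      simp only [treeOK, Bool.and_eq_true, Nat.blt_eq, Bool.not_eq_true', veqB, List.all_eq_true,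
        decide_eq_true_eq] at h
      obtain ⟨⟨⟨hp, hk⟩, hc⟩, himg⟩ := h
      obtain ⟨g, hg, μ, hμ, hgv⟩ := ih _ hp (hp.trans hq)
      refine ⟨gk ⟨_, hk⟩ * g, mul_mem (hgkL _) hg, μ * θ (kOf (get64 parL q % 4)), mul_ne_zero hμ
        (hθ0 _ (Nat.pos_of_ne_zero (Nat.ne_of_beq_eq_false hc)) (Nat.mod_lt _ (by norm_num))), ?_⟩
      rw [mat_mul, ← Matrix.mulVec_mulVec, hgv, Matrix.mulVec_smul, hgk, imgK_F, mul_smul]
      congr 1
      funext i
      simp [vecF, himg i (List.mem_finRange i)]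
  have hLtop : L = ⊤ := by
    refine eq_top_iff.mpr ((CfsgReflClass.unitary_class (n := 6) hF2 (by norm_num)).2.2.ge.trans
      ((Subgroup.closure_le _).mpr fun d hd => ?_))
    obtain ⟨v, hv⟩ := (rank_one hF2 d).mp hd
    choose pre hpre using fun i => hθs (v i)
    obtain ⟨c, hc, hcv⟩ : ∃ c < 4096, ∀ i, vecK c i = pre i := by
      have h4 : ∀ x : K, ∃ a < 4, kOf a = x := fun x => by
        cases x <;> [exact ⟨0, by norm_num, rfl⟩; exact ⟨1, by norm_num, rfl⟩; exact ⟨2, by norm_num, rfl⟩; exact ⟨3, by norm_num, rfl⟩]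
      choose cd hcd hcdv using h4
      refine ⟨cd (pre 0) + 4 * cd (pre 1) + 16 * cd (pre 2) + 64 * cd (pre 3) + 256 * cd (pre 4) + 1024 * cd (pre 5), ?_, fun i => ?_⟩
      · have := hcd (pre 0); have := hcd (pre 1); have := hcd (pre 2); have := hcd (pre 3)
        have := hcd (pre 4); have := hcd (pre 5)
        omega
      · rw [← hcdv (pre i)]
        show kOf _ = _
        congr 1
        have := hcd (pre 0); have := hcd (pre 1); have := hcd (pre 2); have := hcd (pre 3)
        have := hcd (pre 4); have := hcd (pre 5)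
        fin_cases i <;> simp [Nat.shiftRight_eq_div_pow] <;> omega
    have hvv : vecF θ (vecK c) = v := funext fun i => by simp [vecF, hcv, hpre]
    have htab : tabOK c = true := by
      by_cases a : c < 1024
      · exact of_partOK tab_ok0 (Nat.zero_le _) a
      by_cases b : c < 2048
      · exact of_partOK tab_ok1 (by omega) b
      by_cases b' : c < 3072
      · exact of_partOK tab_ok2 (by omega) b'
      exact of_partOK tab_ok3 (by omega) hc
    simp only [tabOK, Bool.or_eq_true, decide_eq_true_eq, Bool.and_eq_true, Nat.blt_eq, veqB, List.all_eq_true] at htab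
    rcases htab with (h | h) | ⟨hq, h⟩
    · refine absurd ?_ hv.1
      rw [← hvv, Nat.eq_of_beq_eq_true h]
      funext i
      simp only [vecF, vecK, Nat.zero_shiftRight, Nat.zero_mod]
      exact map_zero θ
    · exact absurd (θ.injective (by rw [map_zero, hK_F, hvv, hv.2.1])) h
    · have hvq : v = θ (kOf (get64 tabL c % 4)) • vecF θ (ptK (get64 tabL c / 4)) := by
        rw [← hvv]
        funext i
        simp [vecF, h i (List.mem_finRange i)]
      have hne : θ (kOf (get64 tabL c % 4)) ≠ 0 := fun e0 => hv.1 (by rw [hvq, e0, zero_smul])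
      obtain ⟨g, hg, μ, hμ, hgv⟩ := htree _ hq
      have h1 := (ht.conj hF2 (g := g))
      rw [hgv] at h1
      have h2 := h1.smul hF2 (k := θ (kOf (get64 tabL c % 4)) * μ⁻¹) (mul_ne_zero hne (inv_ne_zero hμ))
      rw [smul_smul, inv_mul_cancel_right₀ hμ, ← hvq] at h2
      rw [hv.unique h2]
      exact mul_mem (mul_mem hg (hgkL 0)) (inv_mem hg)
  let ψ : Cfsg.SU 6 F 2 →* permGrp :=
    φ.comp ((MonoidHom.id (Cfsg.SU 6 F 2)).codRestrict L fun g => hLtop.ge (Subgroup.mem_top g))
  have hψ : ∀ g j, g • S j = S ((ψ g : Equiv.Perm (Fin 891)) j) := fun g j => hφ ⟨g, hLtop.ge (Subgroup.mem_top g)⟩ j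
  have hsurj : Function.Surjective ψ := by
    rw [← MonoidHom.range_eq_top]
    refine Subgroup.map_injective permGrp.subtype_injective ?_
    rw [← MonoidHom.range_eq_map permGrp.subtype, Subgroup.range_subtype]
    refine le_antisymm (Subgroup.map_subtype_le _) ?_
    conv_lhs => rw [permGrp]
    rw [Subgroup.closure_le]
    rintro p ⟨k, hk, rfl⟩
    exact ⟨ψ (gk ⟨k, hk⟩), ⟨_, rfl⟩, Equiv.ext fun j => hSinj ((hψ _ j).symm.trans (hgS ⟨k, hk⟩ j))⟩
  have hcen : Subgroup.center (Cfsg.SU 6 F 2) ≤ ψ.ker := by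
    intro z hz
    refine Subtype.ext (Equiv.ext fun j => hSinj ?_)
    rw [← hψ]
    show z • S j = S j
    rw [hsmul]
    obtain ⟨a, hza⟩ : ∃ a : F, ∀ x, mat z *ᵥ x = a • x := by
      obtain ⟨c₀, hc0, hc₀⟩ := exists_skew hF2
      refine scalar_of_fix hF2 (by norm_num) z fun x => ?_
      obtain ⟨e, he0, he, rfl⟩ := pt_surj x
      have hcomm := (conj_tv hF2 z e he c₀ hc₀).symm.trans
        (mul_inv_eq_of_eq_mul (Subgroup.mem_center_iff.mp hz (tv hF2 e he c₀ hc₀)).symm)
      obtain ⟨y, hey, hye⟩ := exists_partner hF2 (mat_ne_zero z he0)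
      have h1 := congrArg (fun k : Cfsg.SU 6 F 2 => mat k *ᵥ y) hcomm
      simp only [tv_mulVec, hye, mul_one, add_right_inj] at h1
      refine smul_pt_eq z he0 he he0 he (c₀⁻¹ * (c₀ * Cfsg.hermForm 6 F 2 y e)) ?_
      rw [mul_smul, ← h1, inv_smul_smul₀ hc0]
    ext x
    constructor
    · rintro ⟨_, ⟨c, rfl⟩, rfl⟩
      refine ⟨fun l => a * c l, ?_⟩
      simp only [hza]
      module
    · rintro ⟨c, rfl⟩
      have ha : a ≠ 0 := fun e0 => by
        obtain ⟨u, hu⟩ : ∃ u : Fin 6 → F, u ≠ 0 := ⟨_, ht.1⟩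
        exact mat_ne_zero z hu (by rw [hza, e0, zero_smul])
      refine ⟨_, ⟨fun l => a⁻¹ * c l, rfl⟩, ?_⟩
      simp only [hza, smul_add, smul_smul, mul_inv_cancel_left₀ ha]
  let ψ' : Cfsg.PSU 6 F 2 →* permGrp := QuotientGroup.lift _ ψ hcen
  have hs' : Function.Surjective ψ' := fun p => by
    obtain ⟨g, rfl⟩ := hsurj p
    exact ⟨QuotientGroup.mk g, rfl⟩
  have hker : ψ'.ker = ⊥ := by
    refine ψ'.normal_ker.eq_bot_or_eq_top.resolve_right fun htop => ?_
    obtain ⟨j, hj, hne⟩ := act_moves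
    have hp : CfsgPCW.decP 891 (permL.getD 0 (0, 0)).1 ∈ permGrp :=
      Subgroup.subset_closure ⟨0, by norm_num, rfl⟩
    obtain ⟨y, hy⟩ := hs' ⟨_, hp⟩
    rw [MonoidHom.mem_ker.mp (htop.ge (Subgroup.mem_top y))] at hy
    have h1 := congrArg (fun p : permGrp => ((p : Equiv.Perm (Fin 891)) ⟨j, hj⟩ : ℕ)) hy
    simp only [Subgroup.coe_one, Equiv.Perm.one_apply] at h1
    exact hne ((perm_rep (by norm_num) ⟨j, hj⟩).symm.trans h1.symm)
  exact ⟨MulEquiv.ofBijective ψ' ⟨(MonoidHom.ker_eq_bot_iff ψ').mp hker, hs'⟩⟩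

end PSU

open Cfsg

/-- The first fixed vector. -/
noncomputable def aL : ↥leechLattice := ⟨aStd, aStd_mem⟩

theorem second_facts : inLatB (vecN (fixL.getD 1 0)) = true ∧ sqNorm (vecN (fixL.getD 1 0)) = 32 ∧
    dotInt aStd (vecN (fixL.getD 1 0)) = -16 ∧ (∀ i, vecN (fixL.getD 0 0) i = aStd i) := by decide +kernel

/-- The second fixed vector. -/
noncomputable def bL : ↥leechLattice := ⟨vecN (fixL.getD 1 0), inLatB_sound second_facts.1⟩

/-- The stabiliser of both. -/
noncomputable abbrev KU : Subgroup ↥Co0 := MulAction.stabilizer ↥Co0 aL ⊓ MulAction.stabilizer ↥Co0 bL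

theorem card_KU : Nat.card ↥KU = 9196830720 := by
  have horb : MulAction.orbit ↥(MulAction.stabilizer ↥Co0 aL) bL = minDot aL (-16) := by
    ext y
    constructor
    · rintro ⟨⟨g, hg⟩, rfl⟩
      refine ⟨(aut_norm g bL).trans second_facts.2.1, ?_⟩
      have := aut_dot g aL bL
      rw [show g • aL = aL from hg] at this
      exact this.trans second_facts.2.2.1
    · rintro ⟨h1, h2⟩
      obtain ⟨g, g1, g2⟩ := pairs16 (v := aL) (w := bL) (w' := y) std_facts.2.2.2.2.1 second_facts.2.1 h1 second_facts.2.2.1 h2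
      exact ⟨⟨g, g1⟩, g2⟩
  have h := card_two_step aL bL
  rw [orbit_shell (fun _ a b => eqv32 a b) aL std_facts.2.2.2.2.1, shell32, horb,
    count_sixteen (v := aL) std_facts.2.2.2.2.1, co0_card] at h
  norm_num at h ⊢
  omega

/-- The coded vectors. -/
noncomputable def vecP (i : Fin 891) : ↥leechLattice :=
  ⟨vecN (get64 vecsL i), inLatB_sound (by
    have h := of_partOK vec_ok (Nat.zero_le _) i.2
    simp only [vecOK, Bool.and_eq_true] at h
    exact h.2)⟩

theorem stab_model {F : Type} [Field F] [Fintype F] (hF : Fintype.card F = 4) :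
    Nonempty (↥KU ≃* Cfsg.PSU 6 F 2) := by
  classical
  obtain ⟨hG, ⟨e⟩⟩ := psu_model hF
  have hinj : Function.Injective vecP := fun a b h => Fin.ext (by
    have hlt : ∀ i : Fin 891, get64 vecsL i < 2 ^ 120 := fun i => by
      have h := of_partOK vec_ok (Nat.zero_le _) i.2
      simp only [vecOK, Bool.and_eq_true, Nat.blt_eq] at h
      exact h.1
    exact get_inc vecs_inc a a.2 b b.2 (vecN_inj (hlt a) (hlt b) (congrArg Subtype.val h)))
  obtain ⟨S, φ, hmem, hφ⟩ := exists_sub (G := ↥KU) (f := vecP) hinj permGrp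
  have hgen : ∀ k < 2, ∃ g : ↥KU, ∀ i, g • vecP i = vecP (CfsgPCW.decP 891 (permL.getD k (0, 0)).1 i) := by
    intro k hk
    obtain ⟨g, hg, hfix⟩ := word_elem (words_ok k hk)
    have hm : ∀ a < 2, fixL.getD a 0 ∈ fixL := fun a ha => by
      rw [List.getD_eq_getElem _ _ (fix_len.1.symm ▸ ha)]; exact List.getElem_mem _
    refine ⟨⟨g, hfix _ (hm 0 (by norm_num)) aL (funext fun i => (second_facts.2.2.2 i).symm),
      hfix _ (hm 1 (by norm_num)) bL rfl⟩, fun i => Subtype.ext ?_⟩
    show ((g • vecP i : ↥leechLattice) : GolayPt → ℤ) = _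
    have h : moveOK k i = true := by
      interval_cases k
      · exact of_partOK move_ok0 (Nat.zero_le _) i.2
      · exact of_partOK move_ok1 (Nat.zero_le _) i.2
    simp only [moveOK, Bool.and_eq_true] at h
    rw [hg]
    show runW _ (vecN (get64 vecsL i)) = vecN (get64 vecsL _)
    rw [runW_path _ _ _ h.1, Nat.eq_of_beq_eq_true h.2, perm_rep hk]
  have hsurj : Function.Surjective φ := by
    rw [← MonoidHom.range_eq_top]
    refine Subgroup.map_injective permGrp.subtype_injective ?_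
    rw [← MonoidHom.range_eq_map permGrp.subtype, Subgroup.range_subtype]
    refine le_antisymm (Subgroup.map_subtype_le _) ?_
    conv_lhs => rw [permGrp]
    rw [Subgroup.closure_le]
    rintro p ⟨k, hk, rfl⟩
    obtain ⟨g, hg⟩ := hgen k hk
    have hgS : g ∈ S := hmem g ⟨_, Subgroup.subset_closure ⟨k, hk, rfl⟩, hg⟩
    exact ⟨φ ⟨g, hgS⟩, ⟨_, rfl⟩, Equiv.ext fun i => hinj ((hφ ⟨g, hgS⟩ i).symm.trans (hg i))⟩
  haveI : Finite ↥KU := Nat.finite_of_card_ne_zero (by rw [card_KU]; norm_num)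
  have hp : Nat.card permGrp = Nat.card ↥KU := by rw [← Nat.card_congr e.toEquiv, hG, card_KU]
  have h1 : Nat.card S ≤ Nat.card ↥KU := Nat.card_le_card_of_injective _ Subtype.val_injective
  have h2 : Nat.card permGrp ≤ Nat.card S := Nat.card_le_card_of_surjective _ hsurj
  have hS : S = ⊤ := Subgroup.eq_top_of_card_eq _ (le_antisymm h1 (hp ▸ h2))
  have hb : Function.Bijective φ :=
    (Nat.bijective_iff_surjective_and_card _).mpr ⟨hsurj, le_antisymm (h1.trans hp.ge) h2⟩
  exact ⟨((Subgroup.topEquiv.symm.trans (MulEquiv.subgroupCongr hS.symm)).trans (MulEquiv.ofBijective φ hb)).trans e.symm⟩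

theorem pair_frame {v w : ↥leechLattice} (hv : sqNorm (v : GolayPt → ℤ) = 32) (hw : sqNorm (w : GolayPt → ℤ) = 32)
    (hd : dotInt (v : GolayPt → ℤ) (w : GolayPt → ℤ) = -16) : ∃ g : ↥Co0, g • v = aL ∧ g • w = bL := by
  obtain ⟨g, hg⟩ := shell_transitive (fun _ x y => eqv32 x y) v aL hv std_facts.2.2.2.2.1
  have h2 := aut_dot g v w
  rw [hg] at h2
  obtain ⟨f, f1, f2⟩ := pairs16 (v := aL) (w := g • w) (w' := bL) std_facts.2.2.2.2.1 ((aut_norm g w).trans hw)
    second_facts.2.1 (h2.trans hd) second_facts.2.2.1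
  exact ⟨f * g, by rw [mul_smul, hg, f1], by rw [mul_smul, f2]⟩

theorem stab_iso {v w : ↥leechLattice} (hv : sqNorm (v : GolayPt → ℤ) = 32) (hw : sqNorm (w : GolayPt → ℤ) = 32)
    (hd : dotInt (v : GolayPt → ℤ) (w : GolayPt → ℤ) = -16) {F : Type} [Field F] [Fintype F]
    (hF : Fintype.card F = 4) :
    Nonempty (↥(MulAction.stabilizer ↥Co0 v ⊓ MulAction.stabilizer ↥Co0 w) ≃* Cfsg.PSU 6 F 2) := by
  obtain ⟨k, kv, kw⟩ := pair_frame hv hw hd
  obtain ⟨e⟩ := stab_model hF
  have hK : (MulAction.stabilizer ↥Co0 v ⊓ MulAction.stabilizer ↥Co0 w).map (MulAut.conj k).toMonoidHom = KU := by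
    rw [KU, ← kv, ← kw, MulAction.stabilizer_smul_eq_stabilizer_map_conj, MulAction.stabilizer_smul_eq_stabilizer_map_conj]
    exact Subgroup.map_inf _ _ _ (MulAut.conj k).injective
  exact ⟨(Subgroup.equivMapOfInjective _ _ (MulAut.conj k).injective).trans
    ((MulEquiv.subgroupCongr hK).trans e)⟩

end CfsgU62
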